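import Cfsg.Agent.Blocks.Local

/-!
# S4577, parity lemma (helper634), part (A): `ℚ(ζ)` is unramified at `p` (helper755)

`M` a maximal ideal of the algebraic integers above `p`, `ζ ^ m = 1`, `p ∤ m`: every nonzero element of `ℚ(ζ)` is `p ^ n u`
with `u`, `u⁻¹` in the local ring of `M`, `u ∈ ℚ(ζ)`.
-/

set_option autoImplicit false

namespace Cfsg.Agent.H755.KS.Val

open Cfsg Cfsg.Agent.Blocks.Local

variable {p m : ℕ} {ζ : ℂ} {M : Ideal AlgInt}

/-- `ℤ[ζ]` -/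
abbrev R (ζ : ℂ) : Subalgebra ℤ ℂ := Algebra.adjoin ℤ {ζ}

/-- Frobenius -/
theorem frob (hp : p.Prime) (hζ : ζ ^ m = 1) {f : ℕ} (hf : p ^ f ≡ 1 [MOD m]) :
    ∀ a ∈ R ζ, ∃ b ∈ R ζ, a ^ p ^ f - a = p * b := by
  intro a ha
  have hpF : Fact p.Prime := ⟨hp⟩
  induction ha using Algebra.adjoin_induction with
  | mem x hx =>
    rw [Set.mem_singleton_iff.1 hx]
    refine ⟨0, zero_mem _, ?_⟩
    have h1 : ζ ^ p ^ f = ζ := by
      obtain ⟨c, hc⟩ := (Nat.modEq_iff_dvd' (Nat.one_le_pow _ _ hp.pos)).1 hf.symm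
      have h2 : p ^ f = m * c + 1 := by
        have := Nat.one_le_pow f p hp.pos
        omega
      rw [h2, pow_succ, pow_mul, hζ, one_pow, one_mul]
    rw [h1, sub_self, mul_zero]
  | algebraMap n =>
    have h1 : (p : ℤ) ∣ n ^ p ^ f - n := by
      rw [← ZMod.intCast_zmod_eq_zero_iff_dvd]
      push_cast
      rw [ZMod.pow_card_pow, sub_self]
    obtain ⟨c, hc⟩ := h1
    refine ⟨algebraMap ℤ ℂ c, Subalgebra.algebraMap_mem _ _, ?_⟩
    have h2 := congrArg (fun x : ℤ => (x : ℂ)) hc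
    push_cast at h2
    simpa using h2
  | add x y hx hy h1 h2 =>
    obtain ⟨b, hb, h1⟩ := h1
    obtain ⟨c, hc, h2⟩ := h2
    obtain ⟨r, hr⟩ := exists_add_pow_prime_pow_eq hp (⟨x, hx⟩ : R ζ) ⟨y, hy⟩ f
    refine ⟨b + c + x * y * r, add_mem (add_mem hb hc) (mul_mem (mul_mem hx hy) r.2), ?_⟩
    have h3 := congrArg (fun z : R ζ => (z : ℂ)) hr
    push_cast at h3
    rw [h3]
    linear_combination h1 + h2
  | mul x y hx hy h1 h2 =>
    obtain ⟨b, hb, h1⟩ := h1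
    obtain ⟨c, hc, h2⟩ := h2
    refine ⟨b * y ^ p ^ f + x * c, add_mem (mul_mem hb (pow_mem hy _)) (mul_mem hx hc), ?_⟩
    rw [mul_pow]
    linear_combination y ^ p ^ f * h1 + x * h2

theorem isIntegral_root (hm : m ≠ 0) (hζ : ζ ^ m = 1) : IsIntegral ℤ ζ :=
  IsIntegral.of_pow (Nat.pos_of_ne_zero hm) (by rw [hζ]; exact isIntegral_one)

theorem isIntegral_of_mem (hm : m ≠ 0) (hζ : ζ ^ m = 1) {a : ℂ} (ha : a ∈ R ζ) : IsIntegral ℤ a := by
  have h1 : R ζ ≤ integralClosure ℤ ℂ := Algebra.adjoin_le (by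
    intro x hx
    rw [Set.mem_singleton_iff.1 hx]
    exact isIntegral_root hm hζ)
  exact h1 ha

theorem exists_multiple {a : ℂ} (ha : IsIntegral ℤ a) (h0 : a ≠ 0) :
    ∃ (N : ℤ) (a' : ℂ), N ≠ 0 ∧ IsIntegral ℤ a' ∧ a * a' = N := by
  have h1 : IsAlgebraic ℤ (⟨a, ha⟩ : AlgInt) := by
    have h2 : IsIntegral ℤ (⟨a, ha⟩ : AlgInt) := by
      rw [← isIntegral_algebraMap_iff (A := AlgInt) (B := ℂ) Subtype.val_injective]
      exact ha
    exact h2.isAlgebraic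
  obtain ⟨N, hN, c, hc⟩ := h1.exists_nonzero_dvd (mem_nonZeroDivisors_of_ne_zero fun h =>
    h0 (congrArg Subtype.val h))
  refine ⟨N, c, hN, c.2, ?_⟩
  have h2 := congrArg (fun z : AlgInt => (z : ℂ)) hc
  simpa using h2.symm

/-- the numerators -/
theorem exists_step (hM : IsPModular p M) (hm : ¬ p ∣ m) (hζ : ζ ^ m = 1) {a : ℂ} (ha : a ∈ R ζ) (h0 : a ≠ 0) :
    ∃ (k : ℕ) (b W : ℂ), b ∈ R ζ ∧ W ∈ R ζ ∧ ¬ MemLocalIdeal M b ∧ ¬ MemLocalIdeal M W ∧ a * W = p ^ k * b := by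
  have hp := hM.1
  have hMp := isPrime_of_isPModular hM
  have hm0 : m ≠ 0 := by rintro rfl; exact hm (dvd_zero _)
  have hpI : MemLocalIdeal M (p : ℂ) := (memLocalIdeal_natCast_iff hM p).2 dvd_rfl
  set f := Nat.totient m with hf
  have hf0 : 0 < f := Nat.totient_pos.2 (Nat.pos_of_ne_zero hm0)
  have hcop : p.Coprime m := (Nat.Prime.coprime_iff_not_dvd hp).2 hm
  have hfm : p ^ f ≡ 1 [MOD m] := Nat.ModEq.pow_totient hcop
  have hint : ∀ {x : ℂ}, x ∈ R ζ → MemLocalRing M x := fun hx =>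
    memLocalRing_of_isIntegral (isIntegral_of_mem hm0 hζ hx)
  -- one step
  have step : ∀ x ∈ R ζ, MemLocalIdeal M x → ∃ y ∈ R ζ, ∃ w ∈ R ζ, ¬ MemLocalIdeal M w ∧ x * w = p * y := by
    intro x hx hxM
    obtain ⟨y, hy, hxy⟩ := frob hp hζ hfm x hx
    have hq : 2 ≤ p ^ f := le_trans hp.two_le (Nat.le_self_pow hf0.ne' p)
    refine ⟨y, hy, x ^ (p ^ f - 1) - 1, sub_mem (pow_mem hx _) (one_mem _), fun h => ?_, ?_⟩
    · have h1 : MemLocalIdeal M (x ^ (p ^ f - 1)) := by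
        obtain ⟨n, hn⟩ : ∃ n, p ^ f - 1 = n + 1 := ⟨p ^ f - 2, by omega⟩
        rw [hn, pow_succ]
        exact memLocalIdeal_mul_left (memLocalRing_pow (hint hx) n) hxM
      have h2 := memLocalIdeal_sub h1 h
      rw [sub_sub_cancel] at h2
      exact not_memLocalIdeal_one h2
    · rw [← hxy]
      obtain ⟨n, hn⟩ : ∃ n, p ^ f = n + 1 := ⟨p ^ f - 1, by omega⟩
      rw [hn, Nat.add_sub_cancel, pow_succ]
      ring
  -- the bound
  obtain ⟨N, a', hN, ha', haN⟩ := exists_multiple (isIntegral_of_mem hm0 hζ ha) h0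
  obtain ⟨v, N0, hN0, hNv⟩ : ∃ (v : ℕ) (N0 : ℤ), ¬ (p : ℤ) ∣ N0 ∧ N = p ^ v * N0 := by
    have hfin : FiniteMultiplicity (p : ℤ) N := by
      rw [Int.finiteMultiplicity_iff]
      exact ⟨by simpa using hp.one_lt.ne', hN⟩
    obtain ⟨c, hc, hc'⟩ := hfin.exists_eq_pow_mul_and_not_dvd
    exact ⟨_, c, hc', hc⟩
  by_contra hcon
  push Not at hcon
  have all : ∀ k : ℕ, ∃ b ∈ R ζ, ∃ W ∈ R ζ, ¬ MemLocalIdeal M W ∧ a * W = p ^ k * b := by
    intro k
    induction k with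
    | zero => exact ⟨a, ha, 1, one_mem _, not_memLocalIdeal_one, by rw [pow_zero, one_mul, mul_one]⟩
    | succ k ih =>
      obtain ⟨b, hb, W, hW, hWM, he⟩ := ih
      have hbM : MemLocalIdeal M b := by
        by_contra h
        exact hcon k b W hb hW h hWM he
      obtain ⟨y, hy, w, hw, hwM, hyw⟩ := step b hb hbM
      refine ⟨y, hy, W * w, mul_mem hW hw, fun h => ?_, ?_⟩
      · rcases memLocalIdeal_or_of_mul (hint hW) (hint hw) h with h1 | h1
        · exact hWM h1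
        · exact hwM h1
      · rw [← mul_assoc, he, mul_assoc, hyw, pow_succ]
        ring
  obtain ⟨b, hb, W, hW, hWM, he⟩ := all (v + 1)
  have hp0 : (p : ℂ) ≠ 0 := by exact_mod_cast hp.ne_zero
  have h1 : (N0 : ℂ) * W = p * (b * a') := by
    have h2 : (p : ℂ) ^ v * (N0 * W) = p ^ v * (p * (b * a')) := by
      have h3 : (N : ℂ) = p ^ v * N0 := by exact_mod_cast hNv
      calc (p : ℂ) ^ v * (N0 * W) = N * W := by rw [h3]; ring
        _ = (a * W) * a' := by rw [← haN]; ring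
        _ = p ^ v * (p * (b * a')) := by rw [he]; ring
    exact mul_left_cancel₀ (pow_ne_zero _ hp0) h2
  have h4 : MemLocalIdeal M ((N0 : ℂ) * W) := by
    rw [h1]
    exact memLocalIdeal_mul_right hpI (memLocalRing_mul (hint hb) (memLocalRing_of_isIntegral ha'))
  rcases memLocalIdeal_or_of_mul (memLocalRing_intCast N0) (hint hW) h4 with h5 | h5
  · exact hN0 ((memLocalIdeal_intCast_iff hM N0).1 h5)
  · exact hWM h5

/-- denominators -/
theorem exists_denom (hm : m ≠ 0) (hζ : ζ ^ m = 1) {z : ℂ} (hz : z ∈ IntermediateField.adjoin ℚ {ζ}) :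
    ∃ N : ℤ, N ≠ 0 ∧ (N : ℂ) * z ∈ R ζ := by
  have hint : ∀ N : ℤ, (N : ℂ) ∈ R ζ := fun N => by
    have h := Subalgebra.algebraMap_mem (R ζ) N
    rwa [eq_intCast] at h
  have h1 : z ∈ Algebra.adjoin ℚ {ζ} := by
    have h2 := IntermediateField.adjoin_simple_toSubalgebra_of_isAlgebraic (F := ℚ) (α := ζ)
      ((isIntegral_root hm hζ).tower_top (A := ℚ)).isAlgebraic
    rw [← h2]
    exact hz
  clear hz
  induction h1 using Algebra.adjoin_induction with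
  | mem x hx =>
    refine ⟨1, one_ne_zero, ?_⟩
    rw [Int.cast_one, one_mul]
    exact Algebra.subset_adjoin hx
  | algebraMap r =>
    refine ⟨r.den, by exact_mod_cast r.den_ne_zero, ?_⟩
    have h3 : ((r.den : ℤ) : ℂ) * algebraMap ℚ ℂ r = (r.num : ℂ) := by
      have h4 : (r.den : ℚ) * r = r.num := by
        rw [mul_comm]
        exact Rat.mul_den_eq_num r
      have h5 := congrArg (fun x : ℚ => (x : ℂ)) h4
      push_cast at h5
      simpa using h5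
    rw [h3]
    exact hint _
  | add x y hx hy h1 h2 =>
    obtain ⟨N, hN, h1⟩ := h1
    obtain ⟨N', hN', h2⟩ := h2
    refine ⟨N * N', mul_ne_zero hN hN', ?_⟩
    have h3 : ((N * N' : ℤ) : ℂ) * (x + y) = N' * (N * x) + N * (N' * y) := by
      push_cast
      ring
    rw [h3]
    exact add_mem (mul_mem (hint _) h1) (mul_mem (hint _) h2)
  | mul x y hx hy h1 h2 =>
    obtain ⟨N, hN, h1⟩ := h1
    obtain ⟨N', hN', h2⟩ := h2
    refine ⟨N * N', mul_ne_zero hN hN', ?_⟩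
    have h3 : ((N * N' : ℤ) : ℂ) * (x * y) = (N * x) * (N' * y) := by
      push_cast
      ring
    rw [h3]
    exact mul_mem h1 h2

theorem mem_field {a : ℂ} (ha : a ∈ R ζ) : a ∈ IntermediateField.adjoin ℚ {ζ} := by
  induction ha using Algebra.adjoin_induction with
  | mem x hx => exact IntermediateField.subset_adjoin _ _ hx
  | algebraMap n =>
    have h : algebraMap ℤ ℂ n = algebraMap ℚ ℂ (n : ℚ) := by simp
    rw [h]
    exact IntermediateField.algebraMap_mem _ _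
  | add x y hx hy h1 h2 => exact add_mem h1 h2
  | mul x y hx hy h1 h2 => exact mul_mem h1 h2

/-- the elements of `ℤ[ζ]` -/
theorem exists_unit_of_mem (hM : IsPModular p M) (hm : ¬ p ∣ m) (hζ : ζ ^ m = 1) {a : ℂ} (ha : a ∈ R ζ) (h0 : a ≠ 0) :
    ∃ (k : ℕ) (u : ℂ), u ∈ IntermediateField.adjoin ℚ {ζ} ∧ a = p ^ k * u ∧ MemLocalRing M u ∧ ¬ MemLocalIdeal M u := by
  have hMp := isPrime_of_isPModular hM
  have hm0 : m ≠ 0 := by rintro rfl; exact hm (dvd_zero _)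
  have hint : ∀ {x : ℂ}, x ∈ R ζ → MemLocalRing M x := fun hx =>
    memLocalRing_of_isIntegral (isIntegral_of_mem hm0 hζ hx)
  obtain ⟨k, b, W, hb, hW, hbM, hWM, he⟩ := exists_step hM hm hζ ha h0
  have hW0 := ne_zero_of_not_memLocalIdeal hWM
  refine ⟨k, b / W, div_mem (mem_field hb) (mem_field hW), ?_, memLocalRing_div (hint hb) (hint hW) hWM, fun h => ?_⟩
  · rw [← mul_div_assoc, ← he, mul_div_assoc, div_self hW0, mul_one]
  · have h1 := memLocalIdeal_mul_right h (hint hW)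
    rw [div_mul_cancel₀ b hW0] at h1
    exact hbM h1

/-- **`ℚ(ζ)` is unramified at `p`** -/
theorem exists_unit (hM : IsPModular p M) (hm : ¬ p ∣ m) (hζ : ζ ^ m = 1) {z : ℂ}
    (hz : z ∈ IntermediateField.adjoin ℚ {ζ}) (h0 : z ≠ 0) :
    ∃ (n : ℤ) (u : ℂ), u ∈ IntermediateField.adjoin ℚ {ζ} ∧ z = (p : ℂ) ^ n * u ∧ MemLocalRing M u ∧
      MemLocalRing M u⁻¹ ∧ ¬ MemLocalIdeal M u := by
  have hMp := isPrime_of_isPModular hM
  have hm0 : m ≠ 0 := by rintro rfl; exact hm (dvd_zero _)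
  have hp0 : (p : ℂ) ≠ 0 := by exact_mod_cast hM.1.ne_zero
  obtain ⟨N, hN, hNz⟩ := exists_denom hm0 hζ hz
  have hN0 : (N : ℂ) ≠ 0 := by exact_mod_cast hN
  obtain ⟨k, u, hu, hku, hur, hui⟩ := exists_unit_of_mem hM hm hζ hNz (mul_ne_zero hN0 h0)
  obtain ⟨l, v, hv, hlv, hvr, hvi⟩ := exists_unit_of_mem hM hm hζ (a := (N : ℂ)) (by
    have h := Subalgebra.algebraMap_mem (R ζ) N
    rwa [eq_intCast] at h) hN0
  have hv0 := ne_zero_of_not_memLocalIdeal hvi
  have h1 : ¬ MemLocalIdeal M (u / v) := fun h => by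
    have h1 := memLocalIdeal_mul_right h hvr
    rw [div_mul_cancel₀ u hv0] at h1
    exact hui h1
  have h2 := memLocalRing_div hur hvr hvi
  refine ⟨(k : ℤ) - l, u / v, div_mem hu hv, ?_, h2, memLocalRing_inv h2 h1, h1⟩
  rw [zpow_sub₀ hp0, zpow_natCast, zpow_natCast]
  have h3 : z = ((N : ℂ) * z) / N := by field_simp
  rw [h3, hku, hlv]
  field_simp

/-- the same for the elements of the field -/
theorem exists_unit' (hM : IsPModular p M) (hm : ¬ p ∣ m) (hζ : ζ ^ m = 1) (z : IntermediateField.adjoin ℚ {ζ})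
    (h0 : z ≠ 0) :
    ∃ (n : ℤ) (u : IntermediateField.adjoin ℚ {ζ}), z = (p : IntermediateField.adjoin ℚ {ζ}) ^ n * u ∧
      MemLocalRing M (algebraMap (IntermediateField.adjoin ℚ {ζ}) ℂ u) ∧
      MemLocalRing M (algebraMap (IntermediateField.adjoin ℚ {ζ}) ℂ u)⁻¹ := by
  obtain ⟨n, u, hu, h1, h2, h3, -⟩ := exists_unit hM hm hζ z.2 (fun h => h0 (Subtype.ext h))
  refine ⟨n, ⟨u, hu⟩, Subtype.ext ?_, h2, h3⟩
  push_cast
  exact h1

end Cfsg.Agent.H755.KS.Val
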